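/-
TI subgroups that are Hall in their normalizer, in groups separable for their primes.

Main results (namespace `Cfsg.Agent.TI`), `H` a non-normal TI subgroup, Hall in its normalizer:
* `coprime_index`: `H` is Hall in `G`
* `coprime_sSup`: the largest normal subgroup of order prime to `|H|`
* `sup_normalizer_eq_top`, `sup_normal`
* `exists_fpf_section`: with solvable `O`, `H` acts fixed-point-freely on a nontrivial abelian section
* `smallCyclic_of_fpf_aut`, `exists_perfect_fpf`
* `isSolvable_of_parts`
-/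
import Cfsg.Agent.Lib.FPF.Basic
import Cfsg.Agent.Lib.Coprime.Invariant
import Cfsg.Agent.Lib.Frobenius.SolvableAut
import Cfsg.Agent.Lib.Cores.Basic
import Cfsg.Agent.Lib.Cores.Subnormal
import Cfsg.Agent.Lib.PGroup.Basic

set_option autoImplicit false
set_option linter.style.haveILetI false
set_option linter.unusedSectionVars false
set_option linter.unusedVariables false

namespace Cfsg.Agent.TI

open Subgroup
open scoped commutatorElement

universe u

variable {G : Type*} [Group G] [Finite G] {H O : Subgroup G}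

theorem normalizer_le (hTI : Cfsg.IsTISubset (H : Set G)) {P : Subgroup G} (hP : P ≤ H)
    (hP1 : P ≠ ⊥) : normalizer (P : Set G) ≤ normalizer (H : Set G) := by
  intro g hg
  by_contra hgH
  obtain ⟨x, hx, hx1⟩ := (P.bot_or_exists_ne_one).resolve_left hP1
  exact hx1 (hTI g hgH x (hP hx) (hP ((mem_normalizer_iff.mp hg x).mp hx)))

theorem coprime_index (hTI : Cfsg.IsTISubset (H : Set G))
    (hHall : (Nat.card H).Coprime (H.subgroupOf (normalizer (H : Set G))).index) :
    (Nat.card H).Coprime H.index := by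
  refine Nat.coprime_of_dvd fun p hp hpH hpi => ?_
  haveI := Fact.mk hp
  obtain ⟨S⟩ := (inferInstance : Nonempty (Sylow p H))
  set P := (S : Subgroup H).map H.subtype with hPdef
  set n := (Nat.card H).factorization p
  have hPc : Nat.card P = p ^ n := by
    rw [hPdef, Nat.card_congr ((S : Subgroup H).equivMapOfInjective _ H.subtype_injective).toEquiv.symm,
      S.card_eq_multiplicity]
  have hPne : P ≠ ⊥ := fun e => by
    have h1 : p ^ 1 ∣ Nat.card P := by
      rw [hPc]
      exact pow_dvd_pow p ((hp.pow_dvd_iff_le_factorization Nat.card_pos.ne').mp (by rwa [pow_one]))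
    rw [e, card_bot, pow_one] at h1
    exact hp.one_lt.ne' (Nat.dvd_one.mp h1)
  have hG : p ^ (n + 1) ∣ Nat.card G := by
    rw [← H.card_mul_index, pow_succ]
    exact mul_dvd_mul (Nat.ordProj_dvd _ p) hpi
  have h2 := (Sylow.prime_pow_dvd_card_normalizer hG hPc).trans
    (card_dvd_of_le (normalizer_le hTI (map_subtype_le _) hPne))
  have hle : H ≤ normalizer (H : Set G) := le_normalizer
  have hcm : Nat.card H * (H.subgroupOf (normalizer (H : Set G))).index =
      Nat.card (normalizer (H : Set G)) := by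
    rw [← Nat.card_congr (subgroupOfEquivOfLe hle).toEquiv]
    exact card_mul_index _
  rw [← hcm] at h2
  have h3 := (hp.pow_dvd_iff_le_factorization Nat.card_pos.ne').mp
    (((hp.coprime_iff_not_dvd.mpr fun hd => hp.ne_one
      (Nat.eq_one_of_dvd_coprimes hHall hpH hd)).pow_left (n + 1)).dvd_of_dvd_mul_right h2)
  omega

omit [Finite G] in
theorem coprime_sup {n : ℕ} {K L : Subgroup G} [L.Normal] (hK : (Nat.card K).Coprime n)
    (hL : (Nat.card L).Coprime n) : (Nat.card (K ⊔ L : Subgroup G)).Coprime n :=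
  (hK.mul_left hL).coprime_dvd_left (Cores.card_sup_dvd K L)

theorem coprime_sSup (n : ℕ) :
    let O' := sSup {K : Subgroup G | K.Normal ∧ (Nat.card K).Coprime n}
    O'.Normal ∧ (Nat.card O').Coprime n ∧
      ∀ K : Subgroup G, K.Normal → (Nat.card K).Coprime n → K ≤ O' := by
  classical
  intro O'
  have := Fintype.ofFinite (Subgroup G)
  set S := {K : Subgroup G | K.Normal ∧ (Nat.card K).Coprime n} with hS
  have hn : O'.Normal := sSup_normal _ fun K hK => hK.1
  refine ⟨hn, ?_, fun K h1 h2 => le_sSup ⟨h1, h2⟩⟩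
  have h0 : O' = (S.toFinset).sup id := by rw [Finset.sup_id_eq_sSup, Set.coe_toFinset]
  suffices h : ((S.toFinset).sup id).Normal ∧ (Nat.card ((S.toFinset).sup id : Subgroup G)).Coprime n by
    rw [h0]; exact h.2
  refine Finset.sup_induction (p := fun K : Subgroup G => K.Normal ∧ (Nat.card K).Coprime n) ⟨inferInstance, by rw [card_bot]; exact Nat.coprime_one_left n⟩
    (fun a ha b hb => ?_) (fun b hb => by simpa [S] using hb)
  haveI := ha.1
  haveI := hb.1
  exact ⟨inferInstance, coprime_sup ha.2 hb.2⟩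

/-- The chain hypothesis produces a normal `π`-section over `O`. -/
theorem exists_pi_section [hOn : O.Normal] (hmax : ∀ K : Subgroup G, K.Normal → (Nat.card K).Coprime (Nat.card H) → K ≤ O)
    (hOc : (Nat.card O).Coprime (Nat.card H)) (hHne : H ≠ ⊥) {n : ℕ} (M : Fin (n + 1) → Subgroup G)
    (h0 : M 0 = ⊥) (hlast : M (Fin.last n) = ⊤) (hnorm : ∀ i, (M i).Normal)
    (hfac : ∀ i : Fin n, (∀ q : ℕ, q.Prime → q ∣ (M i.castSucc).relIndex (M i.succ) → q ∣ Nat.card H) ∨
      ((M i.castSucc).relIndex (M i.succ)).Coprime (Nat.card H)) :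
    ∃ N : Subgroup G, N.Normal ∧ O < N ∧ ∀ q : ℕ, q.Prime → q ∣ O.relIndex N → q ∣ Nat.card H := by
  by_contra hcon
  simp only [not_exists, not_and] at hcon
  have key : ∀ i : Fin (n + 1), M i ≤ O := by
    intro i
    induction i using Fin.induction with
    | zero => rw [h0]; exact bot_le
    | succ i ih =>
      haveI := hnorm i.succ
      have hdvd : O.relIndex (M i.succ) ∣ (M i.castSucc).relIndex (M i.succ) :=
        relIndex_dvd_of_le_left _ ih
      by_contra hne
      rcases hfac i with h | h
      · refine hcon (M i.succ ⊔ O) inferInstance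
          (lt_of_le_of_ne le_sup_right fun e => hne (le_sup_left.trans e.ge)) fun q hq hd => ?_
        rw [relIndex_sup_right] at hd
        exact h q hq (hd.trans hdvd)
      · refine hne (hmax _ (hnorm i.succ) ?_)
        have h1 : Nat.card (O.subgroupOf (M i.succ)) * O.relIndex (M i.succ) = Nat.card (M i.succ) :=
          card_mul_index _
        rw [← h1]
        refine Nat.Coprime.mul_left (hOc.coprime_dvd_left ?_) (h.coprime_dvd_left hdvd)
        rw [← Nat.card_congr ((O.subgroupOf (M i.succ)).equivMapOfInjective _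
          (M i.succ).subtype_injective).toEquiv.symm, subgroupOf_map_subtype]
        exact card_dvd_of_le inf_le_left
  have htop : O = ⊤ := top_le_iff.mp (hlast ▸ key _)
  rw [htop, card_top] at hOc
  have h1 : Nat.card H = 1 :=
    Nat.eq_one_of_dvd_coprimes hOc (card_subgroup_dvd_card H) dvd_rfl
  exact hHne (eq_bot_of_card_eq _ h1)

theorem sup_normalizer_eq_top [hOn : O.Normal] (hTI : Cfsg.IsTISubset (H : Set G))
    (hco : (Nat.card H).Coprime H.index) (hOc : (Nat.card O).Coprime (Nat.card H))
    {N : Subgroup G} [hNn : N.Normal] (hON : O < N)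
    (hN : ∀ q : ℕ, q.Prime → q ∣ O.relIndex N → q ∣ Nat.card H) :
    O ⊔ normalizer (H : Set G) = ⊤ := by
  -- `N = O (N ∩ H)`
  have hNH : N ≤ O ⊔ H := by
    set K := O ⊔ H with hK
    have h1 : K.relIndex N ∣ O.relIndex N := relIndex_dvd_of_le_left _ le_sup_left
    have h2 : K.relIndex N ∣ H.index :=
      (relIndex_dvd_of_le_left N le_sup_right).trans (Cores.relIndex_dvd_index_of_normal_right H N)
    refine relIndex_eq_one.mp ?_
    by_contra hne
    obtain ⟨q, hq, hd⟩ := Nat.exists_prime_and_dvd hne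
    exact hq.ne_one (Nat.eq_one_of_dvd_coprimes hco (hN q hq (hd.trans h1)) (hd.trans h2))
  obtain ⟨p, hp, hpd⟩ := Nat.exists_prime_and_dvd
    (fun e : O.relIndex N = 1 => hON.not_ge (relIndex_eq_one.mp e))
  haveI := Fact.mk hp
  have hpH := hN p hp hpd
  obtain ⟨S⟩ := (inferInstance : Nonempty (Sylow p H))
  -- a Sylow subgroup of `G` inside `H`
  set S₀ := (S : Subgroup H).map H.subtype with hS₀
  have hS₀c : Nat.card S₀ = p ^ (Nat.card G).factorization p := by
    rw [hS₀, Nat.card_congr ((S : Subgroup H).equivMapOfInjective _ H.subtype_injective).toEquiv.symm,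
      S.card_eq_multiplicity, ← H.card_mul_index, Nat.factorization_mul Nat.card_pos.ne'
        (index_ne_zero_of_finite), Finsupp.add_apply,
      Nat.factorization_eq_zero_of_not_dvd (n := H.index)
        (fun hd => hp.ne_one (Nat.eq_one_of_dvd_coprimes hco hpH hd)), add_zero]
  let T : Sylow p G := Sylow.ofCard S₀ hS₀c
  set Q : Subgroup N := (T : Subgroup G).subgroupOf N with hQ
  have hQp : IsPGroup p Q := T.2.comap_subtype
  have hTc : (T : Subgroup G) = S₀ := rfl
  have hQidx : ¬ p ∣ Q.index := by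
    intro hd
    have h3 : Q.index ∣ (T : Subgroup G).index := Cores.relIndex_dvd_index_of_normal_right _ N
    exact T.not_dvd_index (hd.trans h3)
  let Q' : Sylow p N := hQp.toSylow hQidx
  have hfr := Sylow.normalizer_sup_eq_top Q'
  have hQne : Q.map N.subtype ≠ ⊥ := by
    intro e
    have hQ1 : Q = ⊥ := by
      rwa [Subgroup.map_eq_bot_iff_of_injective _ N.subtype_injective] at e
    rw [hQ1, index_bot] at hQidx
    exact hQidx (hpd.trans (relIndex_dvd_card O N))
  have hle : Q.map N.subtype ≤ H := by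
    rw [hQ, subgroupOf_map_subtype]
    exact inf_le_left.trans (hTc.le.trans (map_subtype_le _))
  refine top_le_iff.mp (hfr.ge.trans (sup_le ?_ (hNH.trans ?_)))
  · exact le_sup_of_le_right (normalizer_le hTI hle hQne)
  · exact sup_le le_sup_left (le_sup_of_le_right le_normalizer)

omit [Finite G] in
theorem sup_normal [hOn : O.Normal] (h : O ⊔ normalizer (H : Set G) = ⊤) : (O ⊔ H).Normal := by
  rw [← normalizer_eq_top_iff, eq_top_iff, ← h]
  refine sup_le (le_sup_left.trans le_normalizer) fun g hg => ?_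
  have hgO : g ∈ normalizer (O : Set G) := by rw [normalizer_eq_top]; exact mem_top g
  refine mem_normalizer_iff.mpr fun x => ?_
  have key : (O ⊔ H).map (MulAut.conj g).toMonoidHom = O ⊔ H := by
    rw [Subgroup.map_sup]
    congr 1
    · exact Subgroup.map_equiv_eq_comap_symm' _ O |>.trans (by
        ext y; simpa [MulAut.conj_symm_apply] using (mem_normalizer_iff''.mp hgO y).symm)
    · exact Subgroup.map_equiv_eq_comap_symm' _ H |>.trans (by
        ext y; simpa [MulAut.conj_symm_apply] using (mem_normalizer_iff''.mp hg y).symm)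
  conv_rhs => rw [← key]
  rw [mem_map_equiv]
  simp [mul_assoc]

/-- A fixed-point-free abelian section. -/
theorem exists_fpf_section {G : Type u} [Group G] [Finite G] {H O : Subgroup G} [hOn : O.Normal]
    (hTI : Cfsg.IsTISubset (H : Set G)) (hOc : (Nat.card O).Coprime (Nat.card H))
    (hOs : Group.IsSolvable O) (hON : ¬ O ≤ normalizer (H : Set G)) :
    ∃ (V : Type u) (_ : CommGroup V) (_ : Finite V) (φ : H →* MulAut V), Nontrivial V ∧
      (Nat.card H).Coprime (Nat.card V) ∧ ∀ a, a ≠ 1 → ∀ v, φ a v = v → v = 1 := by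
  classical
  set D := O ⊓ normalizer (H : Set G) with hD
  have hHO : H ≤ normalizer (O : Set G) := by rw [normalizer_eq_top]; exact le_top
  have hDco : (Nat.card H).Coprime (Nat.card O) := hOc.symm
  obtain ⟨r, hr, R₀, hR₀, hR₀O, hR₀A, hR₀D⟩ : ∃ r : ℕ, r.Prime ∧ ∃ R : Subgroup G, IsPGroup r R ∧
      R ≤ O ∧ H ≤ normalizer (R : Set G) ∧ ¬ R ≤ D := by
    by_contra hcon
    simp only [not_exists, not_and, not_not] at hcon
    have hdv : Nat.card O ∣ Nat.card D := by
      refine (Nat.dvd_iff_prime_pow_dvd_dvd _ _).mpr fun q k hq hqk => ?_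
      haveI := Fact.mk hq
      obtain ⟨P, hP⟩ := Coprime.exists_invariant_sylow (A := H) (K := O) hHO hDco (Or.inr hOs) q
      have h1 := hcon q hq _ (P.2.map O.subtype) (map_subtype_le _) hP
      refine (((pow_dvd_pow q ((hq.pow_dvd_iff_le_factorization Nat.card_pos.ne').mp hqk)).trans
        ?_).trans (card_dvd_of_le h1))
      rw [Nat.card_congr ((P : Subgroup O).equivMapOfInjective _ O.subtype_injective).toEquiv.symm,
        P.card_eq_multiplicity]
    have := Subgroup.eq_of_le_of_card_ge (inf_le_left : D ≤ O) (Nat.le_of_dvd Nat.card_pos hdv)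
    exact hON (this.ge.trans inf_le_right)
  haveI := Fact.mk hr
  obtain ⟨R, ⟨hRp, hRO, hRA, hRD⟩, hmin⟩ := (wellFounded_lt (α := Subgroup G)).has_min
    {R | IsPGroup r R ∧ R ≤ O ∧ H ≤ normalizer (R : Set G) ∧ ¬ R ≤ D} ⟨R₀, hR₀, hR₀O, hR₀A, hR₀D⟩
  have hF : (frattini R).map R.subtype ≤ D := by
    by_contra hne
    refine hmin _ ⟨(hRp.to_subgroup _).map R.subtype, (map_subtype_le _).trans hRO,
      hRA.trans (Cores.normalizer_le_normalizer_map _), hne⟩
      (lt_of_le_of_ne (map_subtype_le _) fun e => ?_)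
    have hfr : frattini R = ⊤ :=
      map_injective R.subtype_injective (by rw [e, ← MonoidHom.range_eq_map, range_subtype])
    haveI : Nontrivial R := (nontrivial_iff_ne_bot R).mpr fun e1 => hRD (e1 ▸ bot_le)
    obtain ⟨Mx, hM⟩ := (eq_top_or_exists_le_coatom (⊥ : Subgroup R)).resolve_left bot_ne_top
    exact hM.1.1 (top_le_iff.mp (hfr.ge.trans (frattini_le_coatom hM.1)))
  set T : Subgroup R := D.subgroupOf R with hT
  have hFT : frattini R ≤ T := fun x hx => mem_subgroupOf.mpr (hF ⟨x, hx, rfl⟩)
  have hcomT : commutator R ≤ T := (PGroup.commutator_le_frattini hRp).trans hFT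
  haveI hTn : T.Normal := Subgroup.Normal.of_commutator_le (G := R) (H := T) hcomT
  let act : H →* MulAut R := R.normalizerMonoidHom.comp (Subgroup.inclusion hRA)
  have hact : ∀ (a : H) (x : R), ((act a x : R) : G) = (a : G) * x * (a : G)⁻¹ := fun a x => rfl
  have hHD : H ≤ normalizer (D : Set G) := fun a ha => by
    refine mem_normalizer_iff.mpr fun y => ?_
    have h2 : a ∈ normalizer (normalizer (H : Set G) : Set G) := le_normalizer (le_normalizer ha)
    exact and_congr (mem_normalizer_iff.mp (hHO ha) y) (mem_normalizer_iff.mp h2 y)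
  have hTinv : FPF.Inv act T := fun a x hx => by
    rw [hT, mem_subgroupOf] at hx ⊢
    rw [hact]
    exact (mem_normalizer_iff.mp (hHD a.2) _).mp hx
  have hcomm : ∀ u v : R ⧸ T, u * v = v * u := fun u v =>
    QuotientGroup.induction_on u fun x => QuotientGroup.induction_on v fun y => by
      rw [← QuotientGroup.mk_mul, ← QuotientGroup.mk_mul, QuotientGroup.eq]
      refine hcomT ?_
      have : (x * y)⁻¹ * (y * x) = ⁅y⁻¹, x⁻¹⁆ := by rw [_root_.commutatorElement_def]; group
      rw [this]
      exact commutator_mem_commutator (mem_top _) (mem_top _)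
  refine ⟨R ⧸ T, { (inferInstance : Group (R ⧸ T)) with mul_comm := hcomm }, inferInstance,
    FPF.quotAct act T hTinv, ?_, ?_, ?_⟩
  · exact QuotientGroup.nontrivial_iff.mpr fun e => hRD (subgroupOf_eq_top.mp e)
  · exact hOc.symm.coprime_dvd_right
      ((card_quotient_dvd_card T).trans (card_dvd_of_le hRO))
  · intro a ha v
    induction v using QuotientGroup.induction_on with
    | _ g =>
      intro hv
      have hfix : ∀ b ∈ zpowers (a : G), (g : G)⁻¹ * b * g * b⁻¹ ∈ R ⊓ D := by
        rintro b hb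
        obtain ⟨k, rfl⟩ := mem_zpowers_iff.mp hb
        have hak : a ^ k ∈ FPF.stabOf (FPF.quotAct act T hTinv) (g : R ⧸ T) :=
          zpow_mem (show a ∈ FPF.stabOf _ _ from hv) k
        have h1 : g⁻¹ * act (a ^ k) g ∈ T := QuotientGroup.eq.mp (Eq.symm hak)
        rw [hT, mem_subgroupOf, coe_mul, coe_inv, hact, coe_zpow] at h1
        have h2 : (g : G)⁻¹ * ((a : G) ^ k * g * ((a : G) ^ k)⁻¹) ∈ R :=
          R.mul_mem (R.inv_mem g.2) ((mem_normalizer_iff.mp (hRA (zpow_mem a.2 k)) _).mp g.2)
        exact ⟨by simpa [mul_assoc] using h2, by simpa [mul_assoc] using h1⟩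
      have hzA : zpowers (a : G) ≤ normalizer (R : Set G) := zpowers_le.mpr (hRA a.2)
      have hzN : zpowers (a : G) ≤ normalizer ((R ⊓ D : Subgroup G) : Set G) := zpowers_le.mpr (by
        refine mem_normalizer_iff.mpr fun y => ?_
        exact and_congr (mem_normalizer_iff.mp (hRA a.2) y) (mem_normalizer_iff.mp (hHD a.2) y))
      obtain ⟨c, ⟨hcR, hcC⟩, hcN⟩ := Coprime.exists_mem_centralizer_of_coset' hzA
        ((hOc.symm.coprime_dvd_left (card_dvd_of_le (zpowers_le.mpr a.2))).coprime_dvd_right
          (card_dvd_of_le hRO)) (Or.inl inferInstance) inf_le_left hzN g.2 hfix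
      have hca : (a : G) * c = c * a := mem_centralizer_iff.mp hcC _ (mem_zpowers _)
      have hcD : c ∈ D := by
        refine ⟨hRO hcR, ?_⟩
        by_contra hcH
        refine ha (Subtype.ext (hTI c hcH a a.2 ?_))
        rw [← hca]; simp
      rw [QuotientGroup.eq_one_iff, hT, mem_subgroupOf]
      have := D.mul_mem hcD (D.inv_mem hcN.2)
      simpa [mul_assoc] using this

/-- Fixed-point-free coprime automorphisms of an abelian group: `SmallCyclic`. -/
theorem smallCyclic_of_fpf_aut {A V : Type*} [Group A] [Finite A] [CommGroup V] [Finite V]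
    [Nontrivial V] (φ : A →* MulAut V) (hcop : (Nat.card A).Coprime (Nat.card V))
    (hfix : ∀ a, a ≠ 1 → ∀ v, φ a v = v → v = 1) : Frobenius.SmallCyclic A :=
  fun p q hp hq B hB => Frobenius.isCyclic_of_card_mul_primes (φ.comp B.subtype)
    (fun b hb => hfix b fun e => hb (Subtype.ext e))
    (hcop.coprime_dvd_left (card_subgroup_dvd_card B)) hp hq hB

/-- A non-solvable group of fixed-point-free automorphisms contains a perfect one. -/
theorem exists_perfect_fpf {A V : Type*} [Group A] [Finite A] [CommGroup V] [Nontrivial V]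
    (φ : A →* MulAut V) (hfix : ∀ a, a ≠ 1 → ∀ v, φ a v = v → v = 1) (hns : ¬ Group.IsSolvable A) :
    ∃ (P : Subgroup A) (Γ : Subgroup (MulAut V)), (∀ ψ ∈ Γ, ψ ≠ 1 → ∀ v : V, ψ v = v → v = 1) ∧
      _root_.commutator Γ = ⊤ ∧ Γ ≠ ⊥ ∧ Nonempty (P ≃* Γ) := by
  obtain ⟨P, ⟨n, rfl⟩, hmin⟩ := (wellFounded_lt (α := Subgroup A)).has_min
    (Set.range (derivedSeries A)) ⟨_, 0, rfl⟩
  have hperf : ⁅derivedSeries A n, derivedSeries A n⁆ = derivedSeries A n :=
    (eq_of_le_of_not_lt (derivedSeries_antitone A n.le_succ) (hmin _ ⟨n + 1, rfl⟩))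
  have hne : derivedSeries A n ≠ ⊥ := fun e => hns ((Group.isSolvable_def A).mpr ⟨n, e⟩)
  have hinj : Function.Injective φ := (injective_iff_map_eq_one φ).mpr fun a ha => by
    by_contra hne1
    obtain ⟨v, hv⟩ := exists_ne (1 : V)
    exact hv (hfix a hne1 v (by rw [ha]; rfl))
  set f := φ.comp (derivedSeries A n).subtype with hf
  have hfinj : Function.Injective f := hinj.comp (derivedSeries A n).subtype_injective
  refine ⟨derivedSeries A n, f.range, ?_, ?_, ?_, ⟨MonoidHom.ofInjective hfinj⟩⟩
  · rintro _ ⟨a, rfl⟩ hne1 v hv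
    exact hfix a (fun e => hne1 (by
      show φ (a : A) = 1
      rw [e, map_one])) v hv
  · apply Subgroup.map_injective f.range.subtype_injective
    have hr : f.range = (derivedSeries A n).map φ := by rw [hf, MonoidHom.range_comp, range_subtype]
    rw [map_subtype_commutator, ← MonoidHom.range_eq_map, range_subtype, hr, ← map_commutator, hperf]
  · intro e
    rw [MonoidHom.range_eq_bot_iff] at e
    exact hne ((eq_bot_iff_forall _).mpr fun a ha => congrArg Subtype.val
      (hfinj (show f ⟨a, ha⟩ = f 1 by rw [e]; rfl)))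

/-- Solvability of `G` from `O` and `H`. -/
theorem isSolvable_of_parts [hOn : O.Normal]
    (hmax : ∀ K : Subgroup G, K.Normal → (Nat.card K).Coprime (Nat.card H) → K ≤ O)
    (hOc : (Nat.card O).Coprime (Nat.card H)) (hco : (Nat.card H).Coprime H.index)
    (hOH : (O ⊔ H).Normal) (hOs : Group.IsSolvable O) (hHs : Group.IsSolvable H)
    (hsc : Frobenius.SmallCyclic H) : Group.IsSolvable G := by
  haveI := hOs
  set π := QuotientGroup.mk' O
  have hπ : Function.Surjective π := QuotientGroup.mk'_surjective O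
  set Hb := H.map π with hHb
  have hinj : Function.Injective (π.comp H.subtype) := (injective_iff_map_eq_one _).mpr fun a ha => by
    have h1 : (a : G) ∈ O := (QuotientGroup.eq_one_iff _).mp ha
    exact orderOf_eq_one_iff.mp (Nat.eq_one_of_dvd_coprimes hOc
      (by rw [← orderOf_coe]; exact O.orderOf_dvd_natCard h1) (orderOf_dvd_natCard a))
  let e : H ≃* Hb :=
    (MonoidHom.ofInjective hinj).trans (MulEquiv.subgroupCongr (by rw [MonoidHom.range_comp, range_subtype]))
  have hHbc : Nat.card Hb = Nat.card H := (Nat.card_congr e.toEquiv).symm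
  haveI hHbn : Hb.Normal := by
    have h1 : Hb = (O ⊔ H).map π := by
      rw [Subgroup.map_sup, QuotientGroup.map_mk'_self, bot_sup_eq]
    rw [h1]; exact hOH.map π hπ
  haveI : Group.IsSolvable Hb := Group.isSolvable_of_surjective (f := e.toMonoidHom) e.surjective
  have hscb : Frobenius.SmallCyclic Hb := hsc.of_injective (f := e.symm.toMonoidHom) e.symm.injective
  haveI := hscb.isSolvable_mulAut
  set C := centralizer (Hb : Set (G ⧸ O))
  have hidx : Hb.index ∣ H.index := by
    rw [hHb]
    exact index_map_dvd H hπ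
  -- the centralizer lies in the image of `H`
  have hC : C ≤ Hb := by
    set Z := Hb.subgroupOf C with hZ
    have hZcen : ∀ z : C, z ∈ Z → ∀ c : C, c * z = z * c := fun z hz c =>
      Subtype.ext (mem_centralizer_iff.mp c.2 _ hz).symm
    haveI : Z.Normal := ⟨fun z hz c => by rw [hZcen z hz c, mul_inv_cancel_right]; exact hz⟩
    have hZdvd : Nat.card Z ∣ Nat.card H := by
      rw [← hHbc, hZ, ← Nat.card_congr ((Hb.subgroupOf C).equivMapOfInjective _
        C.subtype_injective).toEquiv.symm, subgroupOf_map_subtype]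
      exact card_dvd_of_le inf_le_left
    have hZidx : Z.index ∣ H.index := (relIndex_dvd_index_of_normal Hb C).trans hidx
    obtain ⟨K, hK⟩ := exists_right_complement'_of_coprime
      ((hco.coprime_dvd_left hZdvd).coprime_dvd_right hZidx)
    have hKc : Nat.card K = Z.index := hK.symm.index_eq_card.symm
    haveI hKn : K.Normal := ⟨fun k hk c => by
      obtain ⟨⟨⟨z, hz⟩, ⟨k', hk'⟩⟩, hzk, -⟩ := hK.existsUnique c
      have h1 : c * k * c⁻¹ = k' * k * k'⁻¹ := by
        rw [← hzk]
        have := hZcen z hz (k' * k * k'⁻¹)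
        calc z * k' * k * (z * k')⁻¹ = z * (k' * k * k'⁻¹) * z⁻¹ := by group
          _ = k' * k * k'⁻¹ := by rw [← this, mul_inv_cancel_right]
      rw [h1]
      exact K.mul_mem (K.mul_mem hk' hk) (K.inv_mem hk')⟩
    have hKco : (Nat.card K).Coprime (Nat.card H) := (hco.coprime_dvd_right (hKc ▸ hZidx)).symm
    set K₁ := K.map C.subtype with hK₁
    have hK₁c : Nat.card K₁ = Nat.card K :=
      Nat.card_congr (K.equivMapOfInjective _ C.subtype_injective).toEquiv.symm
    haveI hK₁n : K₁.Normal := ⟨fun x hx g => by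
      obtain ⟨k, hk, rfl⟩ := hx
      have hgC : g * (k : G ⧸ O) * g⁻¹ ∈ C := Subgroup.Normal.conj_mem inferInstance _ k.2 g
      refine ⟨⟨_, hgC⟩, ?_, rfl⟩
      rw [SetLike.mem_coe, ← QuotientGroup.eq_one_iff (N := K), ← orderOf_eq_one_iff]
      refine Nat.eq_one_of_dvd_coprimes
        (show (Nat.card K).Coprime (Nat.card (C ⧸ K)) from ?_) ?_ (orderOf_dvd_natCard _)
      · rw [← Subgroup.index_eq_card, hK.index_eq_card, hKc]
        exact ((hco.coprime_dvd_left hZdvd).coprime_dvd_right hZidx).symm
      · refine (orderOf_map_dvd (QuotientGroup.mk' K) _).trans ?_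
        rw [← orderOf_coe]
        show orderOf (g * (k : G ⧸ O) * g⁻¹) ∣ _
        rw [← MulAut.conj_apply, MulEquiv.orderOf_eq, orderOf_coe]
        exact K.orderOf_dvd_natCard hk⟩
    have hKO : K₁.comap π ≤ O := by
      refine hmax _ (hK₁n.comap π) ?_
      have h1 := Cores.card_map_mul_ker π (K₁.comap π) (Subgroup.ker_le_comap _ _)
      rw [map_comap_eq_self_of_surjective hπ, QuotientGroup.ker_mk'] at h1
      rw [← h1]
      exact (hK₁c ▸ hKco).mul_left hOc
    have hK₁bot : K₁ = ⊥ := by
      rw [← map_comap_eq_self_of_surjective hπ K₁, eq_bot_iff]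
      exact (map_mono hKO).trans (QuotientGroup.map_mk'_self O).le
    have hKbot : K = ⊥ := (Subgroup.map_eq_bot_iff_of_injective _ C.subtype_injective).mp hK₁bot
    have hZtop : Z = ⊤ := by
      rw [← index_eq_one, ← hKc, hKbot, card_bot]
    exact subgroupOf_eq_top.mp hZtop
  let ψ : G ⧸ O →* MulAut Hb := MulAut.conjNormal
  have hker : ψ.ker ≤ Hb := fun x hx => hC (mem_centralizer_iff.mpr fun h hh => by
    have h1 := congrArg Subtype.val (DFunLike.congr_fun (MonoidHom.mem_ker.mp hx) ⟨h, hh⟩)
    simp only [ψ, MulAut.conjNormal_apply, MulAut.one_apply] at h1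
    exact (mul_inv_eq_iff_eq_mul.mp h1).symm)
  haveI : Group.IsSolvable (G ⧸ O) :=
    Group.isSolvable_of_ker_le_range Hb.subtype ψ (by rw [range_subtype]; exact hker)
  exact Group.isSolvable_of_ker_le_range O.subtype (QuotientGroup.mk' O) (by simp)

end Cfsg.Agent.TI
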