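/-
Solvability criterion for groups with a TI Hall subgroup.

Main result: `Cfsg.Agent.TI.main` (parametrised by Zassenhaus' theorem on perfect fixed-point-free groups).
-/
import Cfsg.Agent.Lib.TI.Hall

set_option autoImplicit false
set_option linter.style.haveILetI false

namespace Cfsg.Agent.TI

universe u

open Subgroup

theorem main
    (zas : ∀ (K : Type u) [Group K] [Finite K] (Γ : Subgroup (MulAut K)),
      (∀ φ ∈ Γ, φ ≠ 1 → ∀ k : K, φ k = k → k = 1) → _root_.commutator Γ = ⊤ → Γ ≠ ⊥ →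
        Nonempty (Γ ≃* Matrix.SpecialLinearGroup (Fin 2) (ZMod 5)))
    {G : Type u} [Group G] [Finite G] (H : Subgroup G) (hTI : Cfsg.IsTISubset (H : Set G))
    (hnn : ¬ H.Normal)
    (hHall : (Nat.card H).Coprime (H.subgroupOf (Subgroup.normalizer (H : Set G))).index)
    {n : ℕ} (M : Fin (n + 1) → Subgroup G) (h0 : M 0 = ⊥) (hl : M (Fin.last n) = ⊤)
    (hnorm : ∀ i, (M i).Normal)
    (hfac : ∀ i : Fin n, (∀ q : ℕ, q.Prime → q ∣ (M i.castSucc).relIndex (M i.succ) → q ∣ Nat.card H) ∨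
      ((M i.castSucc).relIndex (M i.succ)).Coprime (Nat.card H))
    (O : Subgroup G) (hO : O = sSup {K : Subgroup G | K.Normal ∧ (Nat.card K).Coprime (Nat.card H)}) :
    O ⊔ normalizer (H : Set G) = ⊤ ∧ (O ⊔ H).Normal ∧ (Group.IsSolvable G ↔ Group.IsSolvable O ∧
      ∀ K : Subgroup G, K ≤ H → ¬ Nonempty (K ≃* Matrix.SpecialLinearGroup (Fin 2) (ZMod 5))) := by
  obtain ⟨hOn, hOc, hmax⟩ := coprime_sSup (G := G) (Nat.card H)
  rw [← hO] at hOn hOc hmax
  haveI := hOn
  have hHne : H ≠ ⊥ := fun e => hnn (e ▸ inferInstance)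
  have hco := coprime_index hTI hHall
  obtain ⟨N, hNn, hON, hN⟩ := exists_pi_section hmax hOc hHne M h0 hl hnorm hfac
  haveI := hNn
  have hsup := sup_normalizer_eq_top hTI hco hOc hON hN
  refine ⟨hsup, sup_normal hsup, ?_, ?_⟩
  · intro hG
    refine ⟨inferInstance, fun K _ ⟨e⟩ => Frobenius.sl25_not_solvable ?_⟩
    exact Group.isSolvable_of_surjective (f := e.toMonoidHom) e.surjective
  · rintro ⟨hOs, hK⟩
    have hONH : ¬ O ≤ normalizer (H : Set G) := fun h => hnn
      (normalizer_eq_top_iff.mp (top_le_iff.mp (hsup.ge.trans (sup_le h le_rfl))))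
    obtain ⟨V, _, _, φ, hV, hcopV, hfix⟩ := exists_fpf_section hTI hOc hOs hONH
    haveI := hV
    have hsc := smallCyclic_of_fpf_aut φ hcopV hfix
    have hHs : Group.IsSolvable H := by
      by_contra hns
      obtain ⟨P, Γ, hΓf, hΓp, hΓne, ⟨e⟩⟩ := exists_perfect_fpf φ hfix hns
      obtain ⟨e'⟩ := zas V Γ hΓf hΓp hΓne
      exact hK (P.map H.subtype) (map_subtype_le P)
        ⟨((P.equivMapOfInjective _ H.subtype_injective).symm.trans e).trans e'⟩
    exact isSolvable_of_parts hmax hOc hco (sup_normal hsup) hOs hHs hsc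

end Cfsg.Agent.TI
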